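import Mathlib
import Cfsg.Agent.TcData.HN.Cmp.D

set_option autoImplicit false
set_option Elab.async false
set_option maxRecDepth 100000
set_option linter.all false

namespace Cfsg.Agent.TcData.HN.Cmp

open Cfsg.Spor Cfsg.Agent.Lib.TcFacts Cfsg.Agent.Lib.TcBits Cfsg.Agent.Lib.TcPres Cfsg.Agent.Lib.TcRel Cfsg.Agent.Lib.TcChain Cfsg.Agent.Lib.TcAbs Cfsg.Agent.Lib.TcLevels Cfsg.Spor.HN

theorem hMc : ∀ j, j < 11 → allB (fun b i => (Ml j).testBit b == i.testBit j) bet 0 = true := by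
  decide +kernel

theorem hOc : allB (fun b _ => (Cfsg.Agent.TcData.HN.I1539000.O1).testBit b) bet 0 = true := by decide +kernel

theorem hOlt : Cfsg.Agent.TcData.HN.I1539000.O1 < 2 ^ 2 ^ 21 := by decide +kernel

theorem hcl : ∀ x ∈ [Gen.x, Gen.y, Gen.z], progApply (Cfsg.Agent.TcData.HN.I1539000.pr x) Cfsg.Agent.TcData.HN.I1539000.O1 = Cfsg.Agent.TcData.HN.I1539000.O1 := by decide +kernel

theorem hE_x : ∀ j, j < 11 → allB (fun b i => (progApply (Cfsg.Agent.TcData.HN.I1539000.pr .x) (Ml j)).testBit b ==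
    (progApply (Cfsg.Agent.TcData.HNH.V.pr .x) (slice 11 j)).testBit i) bet 0 = true := by decide +kernel

theorem hE_y : ∀ j, j < 11 → allB (fun b i => (progApply (Cfsg.Agent.TcData.HN.I1539000.pr .y) (Ml j)).testBit b ==
    (progApply (Cfsg.Agent.TcData.HNH.V.pr .y) (slice 11 j)).testBit i) bet 0 = true := by decide +kernel

theorem hE_z : ∀ j, j < 11 → allB (fun b i => (progApply (Cfsg.Agent.TcData.HN.I1539000.pr .z) (Ml j)).testBit b ==
    (progApply (Cfsg.Agent.TcData.HNH.V.pr .z) (slice 11 j)).testBit i) bet 0 = true := by decide +kernel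

end Cfsg.Agent.TcData.HN.Cmp
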