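import Mathlib
import Cfsg.Agent.TcData.HN.Cmp.C

set_option autoImplicit false
set_option Elab.async false
set_option maxRecDepth 100000
set_option linter.all false

namespace Cfsg.Agent.TcData.HN.Cmp

open Cfsg.Spor Cfsg.Agent.Lib.TcFacts Cfsg.Agent.Lib.TcBits Cfsg.Agent.Lib.TcPres Cfsg.Agent.Lib.TcRel Cfsg.Agent.Lib.TcChain Cfsg.Agent.Lib.TcAbs Cfsg.Agent.Lib.TcLevels Cfsg.Spor.HN

/-- The points. -/
noncomputable def beta (i : ℕ) : ℕ := bet.getD i 0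

theorem hlen : bet.length = 1408 := by decide +kernel

theorem habHL : ∀ x ∈ Cfsg.Agent.TcData.HNH.gensL, ∀ j, j < 11 →
    progApply (Cfsg.Agent.TcData.HNH.V.pr x) (Nat.land (slice 11 j) (2 ^ (2 ^ 11) - 2 ^ 1408)) =
      Nat.land (slice 11 j) (2 ^ (2 ^ 11) - 2 ^ 1408) := by decide +kernel

theorem habH : ∀ x, ∀ i, 1408 ≤ i → progPerm (Cfsg.Agent.TcData.HNH.V.pr x) i = i :=
  fix_above_gen (by norm_num) (by norm_num) Cfsg.Agent.TcData.HNH.V.hv Cfsg.Agent.TcData.HNH.gensL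
    (by intro x; cases x <;> decide) habHL

theorem hnH : ∀ x, ∀ i, i < 1408 → progPerm (Cfsg.Agent.TcData.HNH.V.pr x) i < 1408 := fun x i hi =>
  lt_of_fix_above _ (habH x) i hi

theorem hM : ∀ j, j < 11 → ∀ i, i < 1408 → (Ml j).testBit (beta i) = i.testBit j := by
  intro j hj i hi
  exact of_allB_beq (F := (Ml j).testBit) (G := fun i => i.testBit j) (hMc j hj) i (by rw [hlen]; exact hi)

theorem hβ : ∀ i i', i < 1408 → i' < 1408 → beta i = beta i' → i = i' :=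
  beta_inj (kH := 11) (by norm_num) hM

theorem hOb : ∀ i, i < 1408 → (Cfsg.Agent.TcData.HN.I1539000.O1).testBit (beta i) = true := by
  intro i hi
  exact of_allB_set (F := (Cfsg.Agent.TcData.HN.I1539000.O1).testBit) hOc i (by rw [hlen]; exact hi)

theorem hO : ∀ q, (Cfsg.Agent.TcData.HN.I1539000.O1).testBit q = true → ∃ i, i < 1408 ∧ beta i = q :=
  mem_of_count hOlt Cfsg.Agent.TcData.HN.I1539000.O1_card hβ hOb

theorem hEq : ∀ x ∈ Cfsg.Agent.TcData.HNH.Ch.SLt, ∀ i, i < 1408 →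
    progPerm (Cfsg.Agent.TcData.HN.I1539000.pr x) (beta i) = beta (progPerm (Cfsg.Agent.TcData.HNH.V.pr x) i) := by
  intro x hx
  have hx' : x ∈ [Gen.x, Gen.y, Gen.z] := hx
  have h2 : ∀ j, j < 11 → allB (fun b i => (progApply (Cfsg.Agent.TcData.HN.I1539000.pr x) (Ml j)).testBit b ==
      (progApply (Cfsg.Agent.TcData.HNH.V.pr x) (slice 11 j)).testBit i) bet 0 = true := by
    simp only [List.mem_cons, List.not_mem_nil, or_false] at hx'
    rcases hx' with rfl | rfl | rfl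
    exacts [hE_x, hE_y, hE_z]
  refine equivariant_of_masks (Cfsg.Agent.TcData.HNH.V.hv x) (Cfsg.Agent.TcData.HN.I1539000.hv x) (kH := 11) (by norm_num) beta Ml Cfsg.Agent.TcData.HN.I1539000.O1 hO hOb hM
    (hcl x hx') ?_
  intro j hj i hi
  exact of_allB_beq (F := (progApply (Cfsg.Agent.TcData.HN.I1539000.pr x) (Ml j)).testBit)
    (G := (progApply (Cfsg.Agent.TcData.HNH.V.pr x) (slice 11 j)).testBit) (h2 j hj) i (by rw [hlen]; exact hi)

theorem hInj : Set.InjOn (fun g => Cfsg.Agent.TcData.HN.I1539000.Phi (piOf Cfsg.Agent.TcData.HN.I1539000.hRHRR g))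
    (subOf Cfsg.Agent.TcData.HNH.RR Cfsg.Agent.TcData.HNH.Ch.SLt) :=
  injOn_of_transport Cfsg.Agent.TcData.HN.I1539000.hRHRR Cfsg.Agent.TcData.HNH.V.hR Cfsg.Agent.TcData.HN.I1539000.hR _ hnH habH beta hEq hβ Cfsg.Agent.TcData.HNH.Fin.main.2

theorem hCard : Nat.card (subOf Cfsg.Agent.TcData.HN.RR Cfsg.Agent.TcData.HNH.Ch.SLt) = 177408000 ∧
    Set.InjOn Cfsg.Agent.TcData.HN.I1539000.Phi (subOf Cfsg.Agent.TcData.HN.RR Cfsg.Agent.TcData.HNH.Ch.SLt) := by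
  have h := card_of_transport Cfsg.Agent.TcData.HN.I1539000.hRHRR Cfsg.Agent.TcData.HN.I1539000.Phi _ hInj
  exact ⟨h.1.trans Cfsg.Agent.TcData.HNH.Fin.main.1, h.2⟩

end Cfsg.Agent.TcData.HN.Cmp
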